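import Mathlib

/-! Separatedness descends along universally closed surjections. -/

set_option autoImplicit false
set_option linter.style.haveILetI false
set_option backward.isDefEq.respectTransparency false

universe u

open CategoryTheory CategoryTheory.Limits AlgebraicGeometry

namespace Groth.Agent.SepDescLib

theorem descend {U M Z : Scheme.{u}} (m : U ⟶ M) [UniversallyClosed m] [Surjective m] (g : M ⟶ Z) :
    (IsSeparated (m ≫ g) → IsSeparated g) ∧ (QuasiSeparated (m ≫ g) → QuasiSeparated g) := by
  let mm := pullback.map (m ≫ g) (m ≫ g) g g m m (𝟙 Z) (Category.comp_id _) (Category.comp_id _)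
  haveI : UniversallyClosed mm := MorphismProperty.pullbackMap (P := @UniversallyClosed) ‹_› ‹_› rfl rfl
  have hcomm : pullback.diagonal (m ≫ g) ≫ mm = m ≫ pullback.diagonal g := by
    apply pullback.hom_ext <;> simp [mm]
  constructor
  · intro h
    refine ⟨IsClosedImmersion.of_isPreimmersion _ ?_⟩
    have : Set.range (pullback.diagonal g) = mm '' Set.range (pullback.diagonal (m ≫ g)) := by
      ext z
      constructor
      · rintro ⟨y, rfl⟩
        obtain ⟨x, rfl⟩ := m.surjective y
        exact ⟨_, ⟨x, rfl⟩, congrArg (fun k => k x) hcomm⟩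
      · rintro ⟨_, ⟨x, rfl⟩, rfl⟩
        exact ⟨m x, (congrArg (fun k => k x) hcomm).symm⟩
    rw [this]
    exact mm.isClosedMap _ (pullback.diagonal (m ≫ g)).isClosedEmbedding.isClosed_range
  · intro h
    refine ⟨?_⟩
    haveI : QuasiCompact (m ≫ pullback.diagonal g) := by rw [← hcomm]; infer_instance
    rw [quasiCompact_iff]
    intro O hO hc
    have := QuasiCompact.isCompact_preimage (f := m ≫ pullback.diagonal g) O hO hc
    have e : (m ≫ pullback.diagonal g) ⁻¹' O = m ⁻¹' (pullback.diagonal g ⁻¹' O) := rfl
    rw [e] at this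
    rw [← Set.image_preimage_eq (pullback.diagonal g ⁻¹' O) m.surjective]
    exact this.image m.continuous

end Groth.Agent.SepDescLib
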